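import Cfsg.Agent.Lib.Count.Basic

/-!
A Sylow subgroup is a direct factor iff `p`-elements commute with prime-power `p'`-elements.
-/

set_option autoImplicit false

namespace CfsgLib.Count

variable {G : Type*} [Group G]

/-- An element whose order is coprime to the index of a normal subgroup lies in it. -/
theorem mem_of_coprime_index {K : Subgroup G} [K.Normal] {y : G}
    (h : (orderOf y).Coprime K.index) : y ∈ K := by
  have h1 : orderOf (QuotientGroup.mk' K y) ∣ orderOf y := orderOf_map_dvd _ _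
  have h2 : orderOf (QuotientGroup.mk' K y) ∣ K.index := orderOf_dvd_natCard _
  have h3 : orderOf (QuotientGroup.mk' K y) = 1 := Nat.eq_one_of_dvd_coprimes h h1 h2
  rw [orderOf_eq_one_iff] at h3
  exact (QuotientGroup.eq_one_iff y).mp h3

theorem isComplement'_of_normal {P K : Subgroup G} [K.Normal] (h1 : P ⊓ K = ⊥) (h2 : P ⊔ K = ⊤) :
    P.IsComplement' K := by
  apply Subgroup.isComplement'_of_disjoint_and_mul_eq_univ (disjoint_iff.mpr h1)
  rw [← Subgroup.mul_normal, h2]
  rfl

/-- If a Sylow `p`-subgroup `P` commutes with all prime-power-order `p'`-elements then it is a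
direct factor. -/
theorem direct_factor_of_commute [Finite G] {p : ℕ} [Fact p.Prime] (P : Sylow p G)
    (h : ∀ x ∈ (P : Subgroup G), ∀ y : G, ∀ q b : ℕ, q.Prime → q ≠ p → orderOf y = q ^ b →
      x * y = y * x) :
    (P : Subgroup G).Normal ∧ ∃ K : Subgroup G, K.Normal ∧ ¬ p ∣ Nat.card K ∧
      (P : Subgroup G) ⊓ K = ⊥ ∧ (P : Subgroup G) ⊔ K = ⊤ := by
  have hC : ∀ y : G, ∀ q b : ℕ, q.Prime → q ≠ p → orderOf y = q ^ b →
      y ∈ Subgroup.centralizer ((P : Subgroup G) : Set G) := by
    intro y q b hq hqp hy x hx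
    exact h x hx y q b hq hqp hy
  have hN : (P : Subgroup G).Normal := by
    rw [← Subgroup.normalizer_eq_top_iff]
    apply eq_top_of_sylow_le
    intro q hq
    by_cases hqp : q = p
    · subst hqp
      exact ⟨P, Subgroup.le_normalizer⟩
    · have := Fact.mk hq
      refine ⟨default, fun y hy => ?_⟩
      obtain ⟨b, hb⟩ := exists_orderOf_eq_of_mem (default : Sylow q G).isPGroup' hy
      exact Subgroup.centralizer_le_normalizer _ (hC y q b hq hqp hb)
  refine ⟨hN, ?_⟩
  obtain ⟨K, hK⟩ := Subgroup.exists_right_complement'_of_coprime P.card_coprime_index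
  have hKp : ¬ p ∣ Nat.card K := by
    rw [← hK.symm.index_eq_card]
    exact P.not_dvd_index
  have hKC : K ≤ Subgroup.centralizer ((P : Subgroup G) : Set G) := by
    apply le_of_primePow_mem
    intro y hy q b hq hb
    by_cases hqp : q = p
    · subst hqp
      have h1 : orderOf y ∣ Nat.card K := K.orderOf_dvd_natCard hy
      rcases Nat.eq_zero_or_pos b with rfl | hb0
      · rw [pow_zero, orderOf_eq_one_iff] at hb
        rw [hb]; exact Subgroup.one_mem _
      · exact absurd ((dvd_pow_self q hb0.ne').trans (hb ▸ h1)) hKp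
    · exact hC y q b hq hqp hb
  refine ⟨K, ?_, hKp, disjoint_iff.mp hK.disjoint, hK.sup_eq_top⟩
  rw [← Subgroup.normalizer_eq_top_iff, eq_top_iff, ← hK.sup_eq_top]
  refine sup_le ?_ Subgroup.le_normalizer
  intro x hx
  apply Subgroup.centralizer_le_normalizer
  intro k hk
  exact (hKC hk x hx).symm

theorem sylow_direct_factor_iff [Finite G] (p : ℕ) [hp : Fact p.Prime] :
    (∃ (P : Sylow p G) (K : Subgroup G), (P : Subgroup G).Normal ∧ K.Normal ∧
      (P : Subgroup G) ⊓ K = ⊥ ∧ (P : Subgroup G) ⊔ K = ⊤) ↔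
    ∀ x y : G, (∃ a : ℕ, orderOf x = p ^ a) →
      (∃ q b : ℕ, q.Prime ∧ q ≠ p ∧ orderOf y = q ^ b) → x * y = y * x := by
  constructor
  · rintro ⟨P, K, hP, hK, h1, h2⟩ x y ⟨a, ha⟩ ⟨q, b, hq, hqp, hb⟩
    have hx : x ∈ (P : Subgroup G) := mem_sylow_of_normal P ha
    have hy : y ∈ K := by
      apply mem_of_coprime_index
      obtain ⟨n, hn⟩ := P.isPGroup'.exists_card_eq
      rw [(isComplement'_of_normal h1 h2).index_eq_card, hn, hb]
      exact Nat.Coprime.pow _ _ ((Nat.coprime_primes hq hp.out).mpr hqp)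
    exact Subgroup.commute_of_normal_of_disjoint _ _ hP hK (disjoint_iff.mpr h1) x y hx hy
  · intro h
    let P : Sylow p G := default
    obtain ⟨hN, K, hK, -, h1, h2⟩ := direct_factor_of_commute P
      (fun x hx y q b hq hqp hb => h x y (exists_orderOf_eq_of_mem P.isPGroup' hx)
        ⟨q, b, hq, hqp, hb⟩)
    exact ⟨P, K, hN, hK, h1, h2⟩

end CfsgLib.Count
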